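/-
Sylow connectivity through nontrivial intersections, and the smallest normal subgroup of order
divisible by p in a disconnected group.
-/
import Cfsg.Prelude.Def_SylowChains
import Cfsg.Agent.Lib.PLocal.StableNormal
import Cfsg.Agent.Lib.CoprimeGen

set_option autoImplicit false
open scoped Pointwise commutatorElement

namespace CfsgLib.StrongAlperin

open CfsgLib

variable {G : Type*} [Group G] {p : ℕ}

/-- The conjugators between Sylow subgroups with nontrivial intersection generate this subgroup. -/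
def link (S : Sylow p G) : Subgroup G :=
  Subgroup.closure {g | (S : Subgroup G) ⊓ ((g • S : Sylow p G) : Subgroup G) ≠ ⊥}

theorem mem_link {S : Sylow p G} {g : G} {D : Subgroup G} (hD : D ≤ (S : Subgroup G))
    (hDg : D ≤ ((g • S : Sylow p G) : Subgroup G)) (hne : D ≠ ⊥) : g ∈ link S :=
  Subgroup.subset_closure fun h => hne (le_bot_iff.1 ((le_inf hD hDg).trans h.le))

theorem le_smul_of_normalizes {S : Sylow p G} {g : G} {D : Subgroup G} (hD : D ≤ (S : Subgroup G))
    (hg : g ∈ Subgroup.normalizer (D : Set G)) : D ≤ ((g • S : Sylow p G) : Subgroup G) := by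
  intro x hx
  rw [Sylow.coe_subgroup_smul, Subgroup.mem_pointwise_smul_iff_inv_smul_mem]
  have := (Subgroup.mem_normalizer_iff.1 (inv_mem hg) x).1 hx
  simpa [MulAut.smul_def] using hD this

/-- One step. -/
def Adj (a b : Sylow p G) : Prop := a ≠ b ∧ (a : Subgroup G) ⊓ (b : Subgroup G) ≠ ⊥

theorem adj_smul {a b : Sylow p G} (g : G) (h : Adj a b) : Adj (g • a) (g • b) := by
  refine ⟨fun e => h.1 (smul_left_cancel g e), fun e => h.2 ?_⟩
  rw [Sylow.coe_subgroup_smul, Sylow.coe_subgroup_smul, ← Subgroup.smul_inf] at e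
  have := congrArg (fun K : Subgroup G => (MulAut.conj g)⁻¹ • K) e
  simpa using this

theorem connected_of_link [Finite G] [Fact p.Prime] {S : Sylow p G} (h : link S = ⊤) :
    Cfsg.IsSylowChainConnected p G := by
  have hsym : ∀ a b : Sylow p G, Relation.ReflTransGen Adj a b → Relation.ReflTransGen Adj b a := by
    intro a b hab
    induction hab with
    | refl => exact .refl
    | tail _ hbc ih => exact .head ⟨hbc.1.symm, inf_comm (α := Subgroup G) _ _ ▸ hbc.2⟩ ih
  have hR : ∀ g : G, Relation.ReflTransGen Adj S (g • S) := by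
    intro g
    have hg : g ∈ link S := h ▸ Subgroup.mem_top g
    refine Subgroup.closure_induction (p := fun g _ => Relation.ReflTransGen Adj S (g • S)) ?_ ?_ ?_ ?_ hg
    · intro x hx
      by_cases e : S = x • S
      · rw [← e]
      · exact .single ⟨e, hx⟩
    · rw [one_smul]
    · intro x y _ _ hx hy
      refine hx.trans ?_
      rw [mul_smul]
      exact hy.lift (x • ·) fun a b hab => adj_smul x hab
    · intro x _ hx
      have : Relation.ReflTransGen Adj (x⁻¹ • S) (x⁻¹ • x • S) := hx.lift (x⁻¹ • ·) fun a b hab => adj_smul x⁻¹ hab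
      rw [inv_smul_smul] at this
      exact hsym _ _ this
  intro A B
  by_cases hAB : (A : Subgroup G) ⊓ (B : Subgroup G) = ⊥
  · obtain ⟨a, rfl⟩ := MulAction.exists_smul_eq G S A
    obtain ⟨b, rfl⟩ := MulAction.exists_smul_eq G S B
    have hchain : ∀ B', Relation.ReflTransGen Adj (a • S) B' →
        ∃ (n : ℕ) (c : Fin (n + 1) → Sylow p G), c 0 = a • S ∧ c (Fin.last n) = B' ∧
          ∀ i : Fin n, c i.castSucc ≠ c i.succ ∧ (c i.castSucc : Subgroup G) ⊓ (c i.succ : Subgroup G) ≠ ⊥ := by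
      intro B' hB'
      induction hB' with
      | refl => exact ⟨0, fun _ => a • S, rfl, rfl, fun i => i.elim0⟩
      | @tail b' c' _ hbc ih =>
        obtain ⟨n, c, h0, hn, hstep⟩ := ih
        refine ⟨n + 1, Fin.snoc c c', ?_, Fin.snoc_last _ _, fun i => ?_⟩
        · rw [show (0 : Fin (n + 2)) = (0 : Fin (n + 1)).castSucc from rfl, Fin.snoc_castSucc, h0]
        · refine Fin.lastCases ?_ (fun j => ?_) i
          · rw [Fin.snoc_castSucc, hn, show (Fin.last n).succ = Fin.last (n + 1) from rfl, Fin.snoc_last]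
            exact hbc
          · rw [Fin.snoc_castSucc, Fin.succ_castSucc, Fin.snoc_castSucc]
            exact hstep j
    obtain ⟨n, c, h0, hn, hstep⟩ := hchain _ ((hsym _ _ (hR a)).trans (hR b))
    exact ⟨n, c, h0, hn, fun i => hAB ▸ bot_le, hstep⟩
  · by_cases e : A = B
    · exact ⟨0, fun _ => A, rfl, e, fun _ => inf_le_left, fun i => i.elim0⟩
    · refine ⟨1, ![A, B], rfl, rfl, fun i => ?_, fun i => ?_⟩
      · fin_cases i
        · exact inf_le_left
        · exact inf_le_right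
      · fin_cases i
        exact ⟨e, hAB⟩

theorem link_of_connected [Finite G] [Fact p.Prime] {S : Sylow p G} (hS : (S : Subgroup G) ≠ ⊥)
    (h : Cfsg.IsSylowChainConnected p G) : link S = ⊤ := by
  refine eq_top_iff.2 fun g _ => ?_
  have hN : ∀ n ∈ Subgroup.normalizer ((S : Subgroup G) : Set G), n ∈ link S := fun n hn =>
    mem_link le_rfl (le_smul_of_normalizes le_rfl hn) hS
  obtain ⟨k, c, h0, hk, -, hstep⟩ := h S (g • S)
  have hall : ∀ i : Fin (k + 1), ∃ x ∈ link S, c i = x • S := by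
    intro i
    induction i using Fin.induction with
    | zero => exact ⟨1, one_mem _, by rw [h0, one_smul]⟩
    | succ i ih =>
      obtain ⟨x, hx, he⟩ := ih
      obtain ⟨y, hy⟩ := MulAction.exists_smul_eq G S (c i.succ)
      refine ⟨y, ?_, hy.symm⟩
      have h2 := (hstep i).2
      rw [he, ← hy] at h2
      have h3 : x⁻¹ * y ∈ link S := Subgroup.subset_closure (fun e => h2 (by
        have e2 := congrArg (fun K : Subgroup G => MulAut.conj x • K) e
        simp only [Subgroup.smul_inf, Subgroup.smul_bot, ← Sylow.coe_subgroup_smul, ← mul_smul, mul_inv_cancel_left] at e2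
        exact e2))
      simpa using mul_mem hx h3
  obtain ⟨x, hx, he⟩ := hall (Fin.last k)
  rw [hk] at he
  have : x⁻¹ * g ∈ Subgroup.normalizer ((S : Subgroup G) : Set G) :=
    Sylow.smul_eq_iff_mem_normalizer.1 (by rw [mul_smul, he, inv_smul_smul])
  simpa using mul_mem hx (hN _ this)

theorem dvd_card_of_disconnected [Finite G] [Fact p.Prime] (h : ¬ Cfsg.IsSylowChainConnected p G) : p ∣ Nat.card G := by
  by_contra hp
  refine h fun A B => ?_
  have hbot : ∀ A : Sylow p G, (A : Subgroup G) = ⊥ := fun A => Subgroup.card_eq_one.1 (by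
    obtain ⟨k, hk⟩ := IsPGroup.iff_card.1 A.2
    rcases k with _ | k
    · simpa using hk
    · exact absurd ((hk ▸ dvd_pow_self p k.succ_ne_zero).trans (Subgroup.card_subgroup_dvd_card _)) hp)
  have : A = B := Sylow.ext (by rw [hbot A, hbot B])
  exact ⟨0, fun _ => A, rfl, this, fun _ => inf_le_left, fun i => i.elim0⟩

/-- The smallest normal subgroup of order divisible by `p`. -/
theorem exists_smallest [Finite G] [Fact p.Prime] (h : ¬ Cfsg.IsSylowChainConnected p G) :
    ∃ X : Subgroup G, X.Normal ∧ p ∣ Nat.card X ∧ ∀ Y : Subgroup G, Y.Normal → p ∣ Nat.card Y → X ≤ Y := by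
  obtain ⟨X, ⟨hXn, hXp⟩, hmin⟩ := (Set.toFinite {X : Subgroup G | X.Normal ∧ p ∣ Nat.card X}).exists_minimal
    ⟨⊤, inferInstance, by rw [Subgroup.card_top]; exact dvd_card_of_disconnected h⟩
  refine ⟨X, hXn, hXp, fun Y hYn hYp => ?_⟩
  haveI := hXn
  haveI := hYn
  by_contra hXY
  obtain ⟨K, hKdef⟩ : ∃ K, K = X ⊓ Y := ⟨_, rfl⟩
  have hKp : ¬ p ∣ Nat.card K := fun hd => hXY ((hmin (y := K) ⟨hKdef ▸ inferInstance, hd⟩ (hKdef ▸ inf_le_left)).trans
    (hKdef ▸ inf_le_right))
  obtain ⟨S⟩ : Nonempty (Sylow p G) := inferInstance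
  refine h (connected_of_link (S := S) ?_)
  obtain ⟨R₀, hR₀⟩ := PLocal.exists_sylow_inf S X
  obtain ⟨T₀, hT₀⟩ := PLocal.exists_sylow_inf S Y
  have hne : ∀ (Z : Subgroup G) (Z₀ : Sylow p Z), p ∣ Nat.card Z → (Z₀ : Subgroup Z).map Z.subtype ≠ ⊥ :=
    fun Z Z₀ hd e => Z₀.ne_bot_of_dvd_card hd ((Subgroup.map_eq_bot_iff_of_injective _ Z.subtype_injective).1 e)
  have hRne := hR₀ ▸ hne X R₀ hXp
  have hTne := hT₀ ▸ hne Y T₀ hYp
  have hcopK : ∀ D : Subgroup G, IsPGroup p D → (Nat.card D).Coprime (Nat.card K) := fun D hD => by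
    obtain ⟨k, hk⟩ := IsPGroup.iff_card.1 hD
    rw [hk]
    exact Nat.Coprime.pow_left k ((Nat.Prime.coprime_iff_not_dvd Fact.out).2 hKp)
  have hSK : (S : Subgroup G) ⊓ K = ⊥ := Subgroup.inf_eq_bot_of_coprime (hcopK _ S.2)
  -- `K` is linked
  have hKn : K.Normal := hKdef ▸ inferInstance
  have hK : K ≤ link S := by
    obtain ⟨r, hr, hr1⟩ := (Subgroup.bot_or_exists_ne_one ((S : Subgroup G) ⊓ X)).resolve_left hRne
    obtain ⟨t, ht, ht1⟩ := (Subgroup.bot_or_exists_ne_one ((S : Subgroup G) ⊓ Y)).resolve_left hTne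
    have hrt : Commute r t := by
      have : ⁅r, t⁆ ∈ (S : Subgroup G) ⊓ K := by
        rw [hKdef]
        refine ⟨?_, ?_, ?_⟩
        · rw [commutatorElement_def]
          exact (S : Subgroup G).mul_mem ((S : Subgroup G).mul_mem ((S : Subgroup G).mul_mem hr.1 ht.1) ((S : Subgroup G).inv_mem hr.1)) ((S : Subgroup G).inv_mem ht.1)
        · rw [commutatorElement_def, mul_assoc, mul_assoc]
          refine X.mul_mem hr.2 ?_
          rw [← mul_assoc]
          exact hXn.conj_mem _ (X.inv_mem hr.2) t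
        · rw [commutatorElement_def]
          exact Y.mul_mem (hYn.conj_mem t ht.2 r) (Y.inv_mem ht.2)
      rw [hSK, Subgroup.mem_bot, commutatorElement_eq_one_iff_mul_comm] at this
      exact this
    obtain ⟨E, hEdef⟩ : ∃ E, E = Subgroup.zpowers r ⊔ Subgroup.zpowers t := ⟨_, rfl⟩
    have hES : E ≤ (S : Subgroup G) := hEdef ▸ sup_le (Subgroup.zpowers_le.2 hr.1) (Subgroup.zpowers_le.2 ht.1)
    haveI : IsMulCommutative E := by
      rw [hEdef, Subgroup.zpowers_eq_closure, Subgroup.zpowers_eq_closure, ← Subgroup.closure_union]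
      refine Subgroup.isMulCommutative_closure ?_
      intro a ha b hb
      rcases ha with rfl | rfl <;> rcases hb with rfl | rfl
      · rfl
      · exact hrt.eq
      · exact hrt.eq.symm
      · rfl
    have hnc : ¬ IsCyclic E := fun hc => by
      have hdisj : Subgroup.zpowers r ⊓ Subgroup.zpowers t = ⊥ := le_bot_iff.1 (hSK ▸ hKdef ▸ fun x hx =>
        ⟨hES (hEdef ▸ Subgroup.mem_sup_left hx.1), Subgroup.zpowers_le.2 hr.2 hx.1, Subgroup.zpowers_le.2 ht.2 hx.2⟩)
      have hr' : r ∈ E := hEdef ▸ Subgroup.mem_sup_left (Subgroup.mem_zpowers r)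
      have ht' : t ∈ E := hEdef ▸ Subgroup.mem_sup_right (Subgroup.mem_zpowers t)
      have hpr : ∀ x : G, x ∈ (S : Subgroup G) → x ≠ 1 → ∃ k : ℕ, orderOf x = p ^ k ∧ 0 < k := fun x hx hx1 => by
        obtain ⟨k, hk⟩ := IsPGroup.iff_orderOf.1 S.2 ⟨x, hx⟩
        rw [Subgroup.orderOf_mk] at hk
        exact ⟨k, hk, Nat.pos_of_ne_zero fun h0 => hx1 (orderOf_eq_one_iff.1 (by rw [hk, h0, pow_zero]))⟩
      -- both cyclic groups contain the unique subgroup of order `p`
      have hsub : ∀ x : G, x ∈ E → x ∈ (S : Subgroup G) → x ≠ 1 → ∃ D : Subgroup ↥E, Nat.card D = p ∧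
          D ≤ (Subgroup.zpowers x).subgroupOf E := by
        intro x hxE hxS hx1
        obtain ⟨k, hk, hk0⟩ := hpr x hxS hx1
        refine ⟨Subgroup.zpowers (⟨x, hxE⟩ ^ p ^ (k - 1)), ?_, Subgroup.zpowers_le.2 ?_⟩
        · rw [Nat.card_zpowers, orderOf_pow_of_dvd (pow_ne_zero _ (Fact.out : p.Prime).ne_zero)
            (by rw [Subgroup.orderOf_mk, hk]; exact pow_dvd_pow p (Nat.sub_le k 1)), Subgroup.orderOf_mk, hk,
            Nat.pow_div (Nat.sub_le k 1) (Fact.out : p.Prime).pos, show k - (k - 1) = 1 by omega, pow_one]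
        · rw [Subgroup.mem_subgroupOf, SubmonoidClass.coe_pow]
          exact pow_mem (Subgroup.mem_zpowers x) _
      obtain ⟨D₁, h1, h1'⟩ := hsub r hr' hr.1 hr1
      obtain ⟨D₂, h2, h2'⟩ := hsub t ht' ht.1 ht1
      haveI := hc
      have heq : D₂ ≤ D₁ := by
        classical
        haveI : Fintype ↥E := Fintype.ofFinite _
        haveI : Fintype ↥D₁ := Fintype.ofFinite _
        have hcy := IsCyclic.card_pow_eq_one_le (α := ↥E) (Fact.out : p.Prime).pos
        have hpow : ∀ D : Subgroup ↥E, Nat.card D = p → ∀ d ∈ D, d ^ p = 1 := fun D hD d hd => by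
          rw [← hD]
          exact orderOf_dvd_iff_pow_eq_one.1 (Subgroup.orderOf_dvd_natCard D hd)
        have hsetE : (Finset.univ.filter fun x : ↥E => x ∈ D₁) = Finset.univ.filter fun a : ↥E => a ^ p = 1 := by
          refine Finset.eq_of_subset_of_card_le (fun d hd => ?_) (hcy.trans (le_of_eq ?_))
          · simp only [Finset.mem_filter, Finset.mem_univ, true_and] at hd ⊢
            exact hpow D₁ h1 d hd
          · rw [← h1, Nat.card_eq_fintype_card]
            exact Fintype.card_subtype _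
        intro d hd
        have : d ∈ Finset.univ.filter fun a : ↥E => a ^ p = 1 := by simpa using hpow D₂ h2 d hd
        rw [← hsetE] at this
        simpa using this
      have heq' : D₂ = D₁ := Subgroup.eq_of_le_of_card_ge heq (by rw [h1, h2])
      have hb : D₁ ≤ (Subgroup.zpowers r ⊓ Subgroup.zpowers t).subgroupOf E :=
        fun d hd => ⟨h1' hd, h2' (heq' ▸ hd)⟩
      rw [hdisj, Subgroup.bot_subgroupOf] at hb
      rw [le_bot_iff.1 hb, Subgroup.card_bot] at h1
      exact (Fact.out : p.Prime).one_lt.ne h1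
    rw [← coprime_generated_by_centralizers (A := E) (K := K) hnc ((Subgroup.normalizer_eq_top (H := K)).ge.trans' le_top)
      (hcopK _ (S.2.to_le hES))]
    refine iSup₂_le fun a ha c hc => ?_
    refine mem_link (D := Subgroup.zpowers a) (Subgroup.zpowers_le.2 (hES ha.1))
      (le_smul_of_normalizes (Subgroup.zpowers_le.2 (hES ha.1)) ?_) (by simpa using ha.2)
    exact Subgroup.centralizer_le_normalizer _ (by
      rw [Subgroup.zpowers_eq_closure, Subgroup.centralizer_closure]
      exact hc.2)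
  -- `X` is linked
  have hT : ∀ n ∈ Subgroup.normalizer (((S : Subgroup G) ⊓ Y : Subgroup G) : Set G), n ∈ link S := fun n hn =>
    mem_link inf_le_left (le_smul_of_normalizes inf_le_left hn) hTne
  have hX : X ≤ link S := by
    intro x hx
    obtain ⟨T, hTdef⟩ : ∃ T, T = (S : Subgroup G) ⊓ Y := ⟨_, rfl⟩
    rw [← hTdef] at hT
    haveI := hKn
    obtain ⟨M, hMdef⟩ : ∃ M, M = T ⊔ K := ⟨_, rfl⟩
    have hTp : IsPGroup p T := hTdef ▸ S.2.to_le inf_le_left
    have hTM : T ≤ M := hMdef ▸ le_sup_left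
    have hconj : T.map (MulAut.conj x).toMonoidHom ≤ M := by
      rintro _ ⟨t, ht, rfl⟩
      show x * t * x⁻¹ ∈ M
      have h1 : x * t * x⁻¹ * t⁻¹ ∈ K := by
        have htY : t ∈ Y := (hTdef ▸ ht : t ∈ (S : Subgroup G) ⊓ Y).2
        rw [hKdef]
        refine ⟨?_, Y.mul_mem (hYn.conj_mem t htY x) (Y.inv_mem htY)⟩
        rw [mul_assoc, mul_assoc]
        refine mul_mem hx ?_
        rw [← mul_assoc]
        exact hXn.conj_mem _ (inv_mem hx) t
      have := mul_mem (hMdef ▸ Subgroup.mem_sup_right h1 : x * t * x⁻¹ * t⁻¹ ∈ M) (hTM ht)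
      rwa [inv_mul_cancel_right] at this
    have hidx : ¬ p ∣ (T.subgroupOf M).index := by
      change ¬ p ∣ T.relIndex M
      intro hd
      refine hKp (hd.trans ?_)
      have h1 := CfsgLib.card_sup_dvd_mul T K
      have h2 := Subgroup.card_mul_index (T.subgroupOf M)
      rw [Nat.card_congr (Subgroup.subgroupOfEquivOfLe hTM).toEquiv] at h2
      rw [← hMdef, ← h2] at h1
      exact Nat.dvd_of_mul_dvd_mul_left Nat.card_pos h1
    let P1 : Sylow p M := IsPGroup.toSylow (hTp.comap_subtype) hidx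
    have hp2 : IsPGroup p ((T.map (MulAut.conj x).toMonoidHom).subgroupOf M) := (hTp.map _).comap_subtype
    obtain ⟨Q, hQ⟩ := hp2.exists_le_sylow
    obtain ⟨m, hm⟩ := MulAction.exists_smul_eq M Q P1
    obtain ⟨a, ha, k, hk, hak⟩ := Subgroup.mem_sup_of_normal_right.1 (hMdef ▸ m.2 : (m : G) ∈ T ⊔ K)
    have hmem : ∀ t ∈ T, (m : G) * x * t * ((m : G) * x)⁻¹ ∈ T := by
      intro t ht
      have h1 : (⟨x * t * x⁻¹, hconj ⟨t, ht, rfl⟩⟩ : M) ∈ (Q : Subgroup M) := hQ ⟨t, ht, rfl⟩
      have h2 : m * ⟨x * t * x⁻¹, hconj ⟨t, ht, rfl⟩⟩ * m⁻¹ ∈ (P1 : Subgroup M) := by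
        rw [← hm, Sylow.coe_subgroup_smul, Subgroup.mem_pointwise_smul_iff_inv_smul_mem]
        simpa [MulAut.smul_def, mul_assoc] using h1
      change (m : G) * (x * t * x⁻¹) * (m : G)⁻¹ ∈ T at h2
      rwa [show (m : G) * x * t * ((m : G) * x)⁻¹ = (m : G) * (x * t * x⁻¹) * (m : G)⁻¹ by group]
    have hmx : (m : G) * x ∈ Subgroup.normalizer (T : Set G) :=
      CfsgLib.Local.mem_normalizer_of_map_conj_eq (Subgroup.eq_of_le_of_card_ge (by rintro _ ⟨t, ht, rfl⟩; exact hmem t ht)
        (Subgroup.card_map_of_injective (f := (MulAut.conj ((m : G) * x)).toMonoidHom) (MulEquiv.injective _)).ge)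
    have h4 : a⁻¹ * ((m : G) * x) ∈ Subgroup.normalizer (T : Set G) := mul_mem (inv_mem (Subgroup.le_normalizer ha)) hmx
    have := mul_mem (inv_mem (hK hk)) (hT _ h4)
    rwa [← hak, show k⁻¹ * (a⁻¹ * (a * k * x)) = x by group] at this
  have hR : ∀ n ∈ Subgroup.normalizer (((S : Subgroup G) ⊓ X : Subgroup G) : Set G), n ∈ link S := fun n hn =>
    mem_link inf_le_left (le_smul_of_normalizes inf_le_left hn) hRne
  refine eq_top_iff.2 ?_
  have hfr := Sylow.normalizer_sup_eq_top R₀
  rw [hR₀] at hfr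
  exact hfr.ge.trans (sup_le (fun n hn => hR n hn) hX)

end CfsgLib.StrongAlperin
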