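/-
The strong conjugation family.
-/
import Cfsg.Agent.S1854
import Cfsg.Agent.Lib.StrongAlperin.Connected
import Cfsg.Agent.Lib.ChainConnected
import Cfsg.Agent.Lib.PResidual

set_option autoImplicit false
open scoped Pointwise commutatorElement
open Cfsg

namespace CfsgLib.StrongAlperin

open CfsgLib CfsgLib.StrongFusion Cfsg.Agent.S1854

variable {G : Type*} [Group G] [Finite G] {p : ℕ} [Fact p.Prime]

/-- The conditions on an essential step. -/
def Ess (p : ℕ) (P H X : Subgroup G) (x : G) : Prop :=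
  H ≤ P ∧
  ¬ p ∣ (P ⊓ Subgroup.normalizer (H : Set G)).relIndex (Subgroup.normalizer (H : Set G)) ∧
  P ⊓ Subgroup.centralizer (H : Set G) ≤ H ∧
  (Cfsg.pPrimePCore p ↥(Subgroup.normalizer (H : Set G))).map (Subgroup.normalizer (H : Set G)).subtype =
    H ⊔ Subgroup.centralizer (H : Set G) ∧
  ¬ Cfsg.IsSylowChainConnected p (↥(Subgroup.normalizer (H : Set G)) ⧸ H.subgroupOf (Subgroup.normalizer (H : Set G))) ∧
  (H ≤ X ∧ X ≤ Subgroup.normalizer (H : Set G) ∧
    (X.subgroupOf (Subgroup.normalizer (H : Set G))).Normal ∧ p ∣ H.relIndex X ∧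
    ∀ Y : Subgroup G, H ≤ Y → Y ≤ Subgroup.normalizer (H : Set G) →
      (Y.subgroupOf (Subgroup.normalizer (H : Set G))).Normal → p ∣ H.relIndex Y → X ≤ Y) ∧
  x ∈ (Cfsg.pResidual p ↥X).map X.subtype

/-- The steps. -/
def St (p : ℕ) (P T : Subgroup G) (n : G) : Prop :=
  n ∈ Subgroup.centralizer (T : Set G) ∨ (T = P ∧ n ∈ Subgroup.normalizer (P : Set G)) ∨ ∃ X, Ess p P T X n

theorem goodSteps (P : Sylow p G) : GoodSteps (St p (P : Subgroup G)) := by
  refine ⟨fun T n h => ?_, fun T n h => ?_⟩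
  · rcases h with h | ⟨rfl, h⟩ | ⟨X, hX⟩
    · exact Subgroup.centralizer_le_normalizer _ h
    · exact h
    · obtain ⟨-, -, -, -, -, ⟨-, hXN, -⟩, hn⟩ := hX
      exact hXN (Subgroup.map_subtype_le _ hn)
  · rcases h with h | ⟨rfl, h⟩ | ⟨X, h1, h2, h3, h4, h5, h6, h7⟩
    · exact Or.inl (inv_mem h)
    · exact Or.inr (Or.inl ⟨rfl, inv_mem h⟩)
    · exact Or.inr (Or.inr ⟨X, h1, h2, h3, h4, h5, h6, inv_mem h7⟩)

theorem haut (P : Sylow p G) (V : Subgroup G) (hV : V ≤ (P : Subgroup G)) (hVf : Full p (P : Subgroup G) V)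
    (big : ∀ (B : Subgroup G) (y : G), Nat.card V < Nat.card B → B ≤ (P : Subgroup G) → cm y B ≤ (P : Subgroup G) →
      FChain (St p (P : Subgroup G)) B y) :
    ∀ w ∈ Subgroup.normalizer (V : Set G), FChain (St p (P : Subgroup G)) V w := by
  classical
  intro w hw
  by_cases hVP : V = (P : Subgroup G)
  · subst hVP
    exact .single (T := (P : Subgroup G)) (Or.inr (Or.inl ⟨rfl, hw⟩)) le_rfl
  have hcn : ∀ T : Subgroup G, Subgroup.centralizer (T : Set G) ≤ Subgroup.normalizer (T : Set G) :=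
    fun T => Subgroup.centralizer_le_normalizer _
  set N := Subgroup.normalizer (V : Set G) with hN
  obtain ⟨S, hS⟩ := exists_sylow_full P hVf
  have hbig' : ∀ (B : Subgroup G) (y : G), B ≤ (P : Subgroup G) → V < B → cm y B ≤ (P : Subgroup G) →
      FChain (St p (P : Subgroup G)) V y := by
    intro B y hB hVB hy
    refine (big B y ?_ hB hy).mono hVB.le
    exact lt_of_le_of_ne (Subgroup.card_le_of_le hVB.le) fun e => hVB.ne (Subgroup.eq_of_le_of_card_ge hVB.le e.ge)
  have hbig : ∀ B : Subgroup G, B ≤ (P : Subgroup G) → V < B → ∀ m ∈ Subgroup.normalizer (B : Set G),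
      FChain (St p (P : Subgroup G)) V m := fun B hB hVB m hm =>
    hbig' B m hB hVB ((Local.map_conj_eq_of_mem_normalizer hm).le.trans hB)
  have hcomb : ∀ o, St p (P : Subgroup G) V o → ∀ m ∈ N, FChain (St p (P : Subgroup G)) V m →
      FChain (St p (P : Subgroup G)) V (o * m) := by
    intro o ho m hm hch
    refine hch.trans ?_
    rw [show cm m V = V from Local.map_conj_eq_of_mem_normalizer hm]
    exact .single (T := V) ho le_rfl
  by_cases hc : (P : Subgroup G) ⊓ Subgroup.centralizer (V : Set G) ≤ V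
  swap
  · -- centralisers
    set C := (Subgroup.centralizer (V : Set G)).subgroupOf N with hC
    haveI hCn : C.Normal := Subgroup.normal_subgroupOf_of_le_normalizer (CharP.normalizer_le_normalizer_centralizer V)
    obtain ⟨R, hR⟩ := PLocal.exists_sylow_inf S C
    have hfr := Sylow.normalizer_sup_eq_top R
    rw [hR, sup_comm] at hfr
    have hm : (⟨w, hw⟩ : ↥N) ∈ C ⊔ Subgroup.normalizer (((S : Subgroup ↥N) ⊓ C : Subgroup ↥N) : Set ↥N) :=
      hfr ▸ Subgroup.mem_top _
    rw [← SetLike.mem_coe, Subgroup.normal_mul] at hm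
    obtain ⟨o, ho, m, hm', e⟩ := hm
    have e' : (o : G) * (m : G) = w := congrArg Subtype.val e
    rw [← e']
    refine hcomb _ (Or.inl (Subgroup.mem_subgroupOf.mp ho)) _ m.2
      (hbig (V ⊔ ((S : Subgroup ↥N) ⊓ C).map N.subtype) (sup_le hV ?_) ?_ _ ?_)
    · exact (Subgroup.map_mono inf_le_left).trans (hS.le.trans inf_le_left)
    · refine lt_of_le_of_ne le_sup_left fun e2 => hc ?_
      intro x hx
      refine e2.ge (Subgroup.mem_sup_right ⟨⟨x, hcn V hx.2⟩, ⟨?_, Subgroup.mem_subgroupOf.mpr hx.2⟩, rfl⟩)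
      obtain ⟨y, hy, e3⟩ : x ∈ (S : Subgroup ↥N).map N.subtype := hS ▸ ⟨hx.1, hcn V hx.2⟩
      rwa [show (⟨x, hcn V hx.2⟩ : ↥N) = y from Subtype.ext e3.symm]
    · refine Subgroup.normalizer_inf_normalizer_le_normalizer_sup _ _ ⟨m.2, ?_⟩
      exact Subgroup.le_normalizer_map N.subtype ⟨m, hm', rfl⟩
  have hVp : IsPGroup p ↥V := P.2.to_le hV
  haveI hVnn : (V.subgroupOf N).Normal := Subgroup.normal_in_normalizer
  have hVn : IsPGroup p ↥(V.subgroupOf N) := hVp.of_equiv (Subgroup.subgroupOfEquivOfLe Subgroup.le_normalizer).symm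
  have hSmem : ∀ x : ↥N, (x : G) ∈ (P : Subgroup G) → x ∈ (S : Subgroup ↥N) := fun x hx => by
    obtain ⟨y, hy, e3⟩ : (x : G) ∈ (S : Subgroup ↥N).map N.subtype := hS ▸ ⟨hx, x.2⟩
    rwa [show x = y from Subtype.ext e3.symm]
  have hSP : ∀ x : ↥N, x ∈ (S : Subgroup ↥N) → (x : G) ∈ (P : Subgroup G) := fun x hx =>
    (hS ▸ Subgroup.mem_map_of_mem N.subtype hx : (x : G) ∈ (P : Subgroup G) ⊓ N).1
  have hVS : V.subgroupOf N ≤ (S : Subgroup ↥N) := fun x hx => hSmem x (hV hx)
  have hSlt : V < (P : Subgroup G) ⊓ N := lt_inf_normalizer P hV hVP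
  by_cases hT : ∀ x : ↥N, (x : G) ∈ (P : Subgroup G) → x ∈ Cfsg.pPrimePCore p ↥N → (x : G) ∈ V
  swap
  · -- O_{p',p}
    push Not at hT
    obtain ⟨x, hx1, hx2, hx3⟩ := hT
    haveI hMn : (Cfsg.pPrimePCore p ↥N).Normal := by
      haveI := pCore_normal (G := ↥N ⧸ Cfsg.pPrimeCore p ↥N) p
      exact Subgroup.Normal.comap inferInstance _
    haveI hOn : (Cfsg.pPrimeCore p ↥N).Normal := pPrimeCore_normal p _
    obtain ⟨R, hR⟩ := PLocal.exists_sylow_inf S (Cfsg.pPrimePCore p ↥N)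
    have hfr := Sylow.normalizer_sup_eq_top R
    rw [hR] at hfr
    set T := (S : Subgroup ↥N) ⊓ Cfsg.pPrimePCore p ↥N with hTdef
    have htop : Cfsg.pPrimeCore p ↥N ⊔ Subgroup.normalizer (T : Set ↥N) = ⊤ :=
      top_le_iff.mp (hfr.ge.trans (sup_le le_sup_right ((core_eq_sup S).trans (sup_le (Subgroup.le_normalizer.trans le_sup_right) le_sup_left))))
    have hm : (⟨w, hw⟩ : ↥N) ∈ Cfsg.pPrimeCore p ↥N ⊔ Subgroup.normalizer (T : Set ↥N) := htop ▸ Subgroup.mem_top _
    rw [← SetLike.mem_coe, Subgroup.normal_mul] at hm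
    obtain ⟨o, ho, m, hm', e⟩ := hm
    have e' : (o : G) * (m : G) = w := congrArg Subtype.val e
    rw [← e']
    have hVT : V ≤ T.map N.subtype := fun v hv =>
      ⟨⟨v, Subgroup.le_normalizer hv⟩, ⟨hSmem _ (hV hv), normalPart_le hVn hv⟩, rfl⟩
    refine hcomb _ (Or.inl (Subgroup.mem_centralizer_iff.mpr fun v hv =>
      (core_centralizes hVp ⟨o, ho, rfl⟩ v hv).symm)) _ m.2
      (hbig (T.map N.subtype) ((Subgroup.map_mono inf_le_left).trans (hS.le.trans inf_le_left))
        (lt_of_le_of_ne hVT fun e2 => hx3 (e2.ge ⟨x, ⟨hSmem x hx1, hx2⟩, rfl⟩)) _ ?_)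
    exact Subgroup.le_normalizer_map N.subtype ⟨m, hm', rfl⟩
  have hcore : (Cfsg.pPrimePCore p ↥N).map N.subtype = V ⊔ Subgroup.centralizer (V : Set G) := by
    obtain ⟨-, -, hCM, hOM, hVM, -, -, hsup⟩ := nice_of_small P hV hVf hc hT
    refine le_antisymm ?_ (sup_le hVM hCM)
    rw [← hsup]
    refine sup_le ?_ le_sup_left
    exact (fun o ho => Subgroup.mem_sup_right (Subgroup.mem_centralizer_iff.mpr fun v hv =>
      (core_centralizes hVp ho v hv).symm))
  -- the quotient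
  obtain ⟨q, hq⟩ : ∃ q, q = QuotientGroup.mk' (V.subgroupOf N) := ⟨_, rfl⟩
  have hqs : Function.Surjective q := hq ▸ QuotientGroup.mk'_surjective _
  have hker : q.ker = V.subgroupOf N := hq ▸ QuotientGroup.ker_mk' _
  by_cases hcon : Cfsg.IsSylowChainConnected p (↥N ⧸ V.subgroupOf N)
  · -- the connected case
    let H : Subgroup ↥N :=
      { carrier := {n | FChain (St p (P : Subgroup G)) V (n : G)}
        one_mem' := FChain.one
        mul_mem' := fun {a b} ha hb => by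
          show FChain (St p (P : Subgroup G)) V ((a : G) * (b : G))
          refine hb.trans ?_
          rw [show cm (b : G) V = V from Local.map_conj_eq_of_mem_normalizer b.2]
          exact ha
        inv_mem' := fun {a} ha => by
          have := ha.inv (goodSteps P)
          rwa [show cm (a : G) V = V from Local.map_conj_eq_of_mem_normalizer a.2] at this }
    let S' : Sylow p (↥N ⧸ V.subgroupOf N) := S.mapSurjective (f := q) hqs
    have hS'c : (S' : Subgroup (↥N ⧸ V.subgroupOf N)) = (S : Subgroup ↥N).map q := rfl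
    have hS'ne : (S' : Subgroup (↥N ⧸ V.subgroupOf N)) ≠ ⊥ := fun h => hSlt.not_ge (by
      rw [hS'c, Subgroup.map_eq_bot_iff, hker] at h
      rw [← hS]
      rintro _ ⟨x, hx, rfl⟩
      exact h hx)
    have hlink := link_of_connected hS'ne hcon
    have hle : link S' ≤ H.map q := by
      rw [link, Subgroup.closure_le]
      intro γ hγ
      obtain ⟨n, rfl⟩ := hqs γ
      refine ⟨n, ?_, rfl⟩
      show FChain (St p (P : Subgroup G)) V (n : G)
      obtain ⟨d, ⟨hd1, hd2⟩, hdne⟩ := (Subgroup.bot_or_exists_ne_one _).resolve_left hγ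
      obtain ⟨x, hx, hxd⟩ := (hS'c ▸ hd1 : d ∈ (S : Subgroup ↥N).map q)
      -- `x` and `n⁻¹ x n` lie in `S`
      have hx' : n⁻¹ * x * n ∈ (S : Subgroup ↥N) := by
        change d ∈ ((q n • S' : Sylow p (↥N ⧸ V.subgroupOf N)) : Subgroup (↥N ⧸ V.subgroupOf N)) at hd2
        rw [Sylow.coe_subgroup_smul, Subgroup.mem_pointwise_smul_iff_inv_smul_mem] at hd2
        have h1 : q (n⁻¹ * x * n) ∈ (S : Subgroup ↥N).map q := by
          rw [← hS'c, map_mul, map_mul, map_inv, hxd]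
          simpa [MulAut.smul_def, mul_assoc] using hd2
        have h2 : n⁻¹ * x * n ∈ ((S : Subgroup ↥N).map q).comap q := h1
        rwa [Subgroup.comap_map_eq, hker, sup_eq_left.2 hVS] at h2
      refine hbig' (cm (n : G)⁻¹ ((P : Subgroup G) ⊓ N) ⊓ ((P : Subgroup G) ⊓ N)) n (inf_le_right.trans inf_le_left) ?_ ?_
      · refine lt_of_le_of_ne (le_inf ?_ hSlt.le) fun e => hdne ?_
        · have := cm_mono (g := (n : G)⁻¹) hSlt.le
          rwa [show cm (n : G)⁻¹ V = V from Local.map_conj_eq_of_mem_normalizer (inv_mem n.2)] at this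
        · have h1 : ((n⁻¹ * x * n : ↥N) : G) ∈ V := e.ge ⟨⟨(x : G), ⟨hSP x hx, x.2⟩, by simp [mul_assoc]⟩, hSP _ hx', (n⁻¹ * x * n).2⟩
          have h2 : q (n⁻¹ * x * n) = 1 := MonoidHom.mem_ker.1 (by rw [hker]; exact h1)
          rw [map_mul, map_mul, map_inv, hxd] at h2
          calc d = q n * ((q n)⁻¹ * d * q n) * (q n)⁻¹ := by group
            _ = 1 := by rw [h2]; group
      · refine (cm_mono inf_le_left).trans ?_
        rw [cm_cm, mul_inv_cancel, cm_one]
        exact inf_le_left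
    have hkerH : q.ker ≤ H := fun x hx => by
      rw [hker] at hx
      have hVlt : V < (P : Subgroup G) ⊓ N := hSlt
      exact hbig ((P : Subgroup G) ⊓ N) inf_le_left hVlt (x : G) (Subgroup.le_normalizer ⟨hV hx, x.2⟩)
    have htop : (⟨w, hw⟩ : ↥N) ∈ (H.map q).comap q := hle (hlink ▸ Subgroup.mem_top _)
    rw [Subgroup.comap_map_eq, sup_eq_left.2 hkerH] at htop
    exact htop
  -- the essential case
  obtain ⟨Xb, hXn, hXp, hXmin⟩ := exists_smallest hcon
  obtain ⟨Xc, hXc⟩ : ∃ Xc, Xc = Xb.comap q := ⟨_, rfl⟩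
  haveI hXcn : Xc.Normal := hXc ▸ hXn.comap q
  obtain ⟨X, hX⟩ : ∃ X, X = Xc.map N.subtype := ⟨_, rfl⟩
  have hXN : X ≤ N := hX ▸ Subgroup.map_subtype_le _
  have hXsub : X.subgroupOf N = Xc := by
    rw [hX, Subgroup.subgroupOf, Subgroup.comap_map_eq_self_of_injective N.subtype_injective]
  have hkX : V.subgroupOf N ≤ Xc := fun v hv => by
    rw [hXc]
    exact Subgroup.ker_le_comap q Xb (hker.ge hv)
  have hrel : ∀ Y : Subgroup G, Y ≤ N → V.relIndex Y = Nat.card ((Y.subgroupOf N).map q) := fun Y hY => by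
    rw [← Subgroup.relIndex_ker, hker, Subgroup.relIndex_subgroupOf hY]
  have hEss : ∀ o ∈ (Cfsg.pResidual p ↥X).map X.subtype, St p (P : Subgroup G) V o := by
    intro o ho
    refine Or.inr (Or.inr ⟨X, hV, hVf, hc, hcore, hcon, ⟨?_, hXN, hXsub ▸ hXcn, ?_, ?_⟩, ho⟩)
    · rw [hX]
      intro v hv
      exact ⟨⟨v, Subgroup.le_normalizer hv⟩, hkX hv, rfl⟩
    · rw [hrel X hXN, hXsub, hXc, Subgroup.map_comap_eq_self_of_surjective hqs]
      exact hXp
    · intro Y hVY hYN hYn hYp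
      rw [hrel Y hYN] at hYp
      have h1 := hXmin _ (hYn.map q hqs) hYp
      have h2 : Xc ≤ Y.subgroupOf N := by
        rw [hXc]
        refine (Subgroup.comap_mono h1).trans ?_
        rw [Subgroup.comap_map_eq, hker, sup_eq_left.2 (show V.subgroupOf N ≤ Y.subgroupOf N from fun x hx => hVY hx)]
      rw [hX]
      rintro _ ⟨x, hx, rfl⟩
      exact h2 hx
  obtain ⟨R₀, hR₀⟩ := PLocal.exists_sylow_inf S Xc
  obtain ⟨T, hTdef⟩ : ∃ T, T = (S : Subgroup ↥N) ⊓ Xc := ⟨_, rfl⟩
  have hfr := Sylow.normalizer_sup_eq_top R₀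
  rw [hR₀, ← hTdef] at hfr
  haveI := CfsgLib.PResidual.pResidual_normal (G := ↥Xc) (p := p)
  haveI : (Cfsg.pResidual p ↥Xc).Characteristic := CfsgLib.pResidual_characteristic
  haveI hOn : ((Cfsg.pResidual p ↥Xc).map Xc.subtype).Normal := ConjAct.normal_of_characteristic_of_normal
  have htop : (Cfsg.pResidual p ↥Xc).map Xc.subtype ⊔ Subgroup.normalizer (T : Set ↥N) = ⊤ := by
    refine top_le_iff.1 (hfr.ge.trans (sup_le le_sup_right ?_))
    have h := congrArg (Subgroup.map Xc.subtype) (CfsgLib.PResidual.pResidual_sup_sylow R₀)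
    rw [Subgroup.map_sup, hR₀, ← hTdef, ← MonoidHom.range_eq_map, Subgroup.range_subtype] at h
    exact h.ge.trans (sup_le (Subgroup.le_normalizer.trans le_sup_right) le_sup_left)
  have hm : (⟨w, hw⟩ : ↥N) ∈ (Cfsg.pResidual p ↥Xc).map Xc.subtype ⊔ Subgroup.normalizer (T : Set ↥N) :=
    htop ▸ Subgroup.mem_top _
  rw [← SetLike.mem_coe, Subgroup.normal_mul] at hm
  obtain ⟨o, ho, m, hm', e⟩ := hm
  have e' : (o : G) * (m : G) = w := congrArg Subtype.val e
  rw [← e']
  have hoX : (o : G) ∈ (Cfsg.pResidual p ↥X).map X.subtype := by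
    have hsurj : Function.Surjective (Xc.equivMapOfInjective N.subtype N.subtype_injective).toMonoidHom :=
      (Xc.equivMapOfInjective N.subtype N.subtype_injective).surjective
    subst hX
    rw [← CfsgLib.PResidual.map_pResidual hsurj, Subgroup.map_map]
    obtain ⟨o', ho', hoe⟩ := ho
    exact ⟨o', ho', congrArg Subtype.val hoe⟩
  refine hcomb _ (hEss _ hoX) _ m.2 (hbig (T.map N.subtype) ?_ ?_ _ (Subgroup.le_normalizer_map N.subtype ⟨m, hm', rfl⟩))
  · rw [hTdef]
    exact (Subgroup.map_mono inf_le_left).trans (hS.le.trans inf_le_left)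
  · refine lt_of_le_of_ne (fun v hv => ⟨⟨v, Subgroup.le_normalizer hv⟩,
      hTdef ▸ ⟨hSmem _ (hV hv), hkX hv⟩, rfl⟩) fun e2 => ?_
    have hle : T ≤ V.subgroupOf N := fun x hx => e2.ge ⟨x, hx, rfl⟩
    -- then the index of `V` in `X` is prime to `p`
    have hd : p ∣ (R₀ : Subgroup ↥Xc).index := by
      have h1 : (R₀ : Subgroup ↥Xc) ≤ (V.subgroupOf N).subgroupOf Xc := fun r hr => by
        have : (r : ↥N) ∈ T := hTdef ▸ hR₀ ▸ Subgroup.mem_map_of_mem Xc.subtype hr
        exact hle this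
      refine dvd_trans ?_ (Subgroup.index_dvd_of_le h1)
      show p ∣ (V.subgroupOf N).relIndex Xc
      rw [← hker, Subgroup.relIndex_ker, hXc, Subgroup.map_comap_eq_self_of_surjective hqs]
      exact hXp
    exact R₀.not_dvd_index hd

end CfsgLib.StrongAlperin
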